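import Groth.Agent.QCoh.Stalk
import Groth.Agent.VarGeom.Normal
import Mathlib.RingTheory.Regular.Flat

/-!
# Solving linear equations in the stalk of a direct image

For a quasi-compact quasi-separated `f : X ⟶ S` and a point `s`, a finite system of linear equations
in the stalk `(f_* F)_s` with a unique solution at every point of `X` above a generalization of `s`
has a solution.
-/

set_option autoImplicit false
set_option linter.style.haveILetI false
set_option backward.isDefEq.respectTransparency false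
set_option backward.isDefEq.respectTransparency.types false

universe u

open CategoryTheory CategoryTheory.Limits AlgebraicGeometry TopologicalSpace Opposite

noncomputable section

namespace Groth.Agent.PushDepth

variable {X S : Scheme.{u}} (f : X ⟶ S) (F : X.Modules) {s : S}

theorem mem_inf {T : Type*} [TopologicalSpace T] {ι : Type*} (u : Finset ι) (V : ι → Opens T) {x : T}
    (h : ∀ i ∈ u, x ∈ V i) : x ∈ u.inf V := by
  classical
  induction u using Finset.induction_on with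
  | empty => exact trivial
  | insert a u _ ih =>
    rw [Finset.inf_insert]
    exact ⟨h a (Finset.mem_insert_self a u), ih fun i hi => h i (Finset.mem_insert_of_mem hi)⟩

/-- An open of `X` containing all points of an affine open above generalizations of `s` contains
all of them above a neighbourhood of `s`. -/
theorem exists_shrink_affine {W : X.Opens} (hW : IsAffineOpen W) {V0 : S.Opens} (hV0 : IsAffineOpen V0)
    (hs : s ∈ V0) (hWV : W ≤ f ⁻¹ᵁ V0) (O : X.Opens) (h : ∀ x ∈ W, f x ⤳ s → x ∈ O) :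
    ∃ V : S.Opens, V ≤ V0 ∧ s ∈ V ∧ W ⊓ f ⁻¹ᵁ V ≤ O := by
  let φ : Γ(S, V0) →+* Γ(X, W) := (f.appLE V0 W hWV).hom
  let M : Submonoid Γ(S, V0) :=
    { carrier := {g | s ∈ S.basicOpen g}
      mul_mem' := fun {a b} ha hb => by
        show s ∈ S.basicOpen (a * b)
        rw [Scheme.basicOpen_mul]
        exact ⟨ha, hb⟩
      one_mem' := by
        show s ∈ S.basicOpen (1 : Γ(S, V0))
        rw [S.mem_basicOpen _ s hs, map_one]
        exact isUnit_one }
  let O' : TopologicalSpace.Opens (Spec Γ(X, W)) := hW.fromSpec ⁻¹ᵁ O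
  obtain ⟨J, hJ⟩ := (PrimeSpectrum.isClosed_iff_zeroLocus_ideal (O'.carrierᶜ : Set (PrimeSpectrum Γ(X, W)))).1
    O'.2.isClosed_compl
  by_cases hd : Disjoint (J : Set Γ(X, W)) (M.map φ : Submonoid Γ(X, W))
  · exfalso
    obtain ⟨P, hP, hJP, hPM⟩ := J.exists_le_prime_disjoint _ hd
    let q : PrimeSpectrum Γ(X, W) := ⟨P, hP⟩
    have hxW : hW.fromSpec q ∈ W := by
      have : hW.fromSpec q ∈ Set.range hW.fromSpec := ⟨q, rfl⟩
      rwa [hW.range_fromSpec] at this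
    have hq : q ∈ (O'.carrierᶜ : Set (PrimeSpectrum Γ(X, W))) := by
      rw [hJ]
      exact hJP
    refine hq (h _ hxW ?_)
    rw [specializes_iff_forall_open]
    intro U hU hsU
    obtain ⟨g, hg, hsg⟩ := hV0.exists_basicOpen_le (V := ⟨U, hU⟩) ⟨s, hsU⟩ hs
    refine hg ?_
    have hnot : φ g ∉ P := fun hh => Set.disjoint_left.1 hPM hh ⟨g, hsg, rfl⟩
    have hq' : q ∈ hW.fromSpec ⁻¹ᵁ X.basicOpen (φ g) := by
      rw [hW.fromSpec_preimage_basicOpen]
      exact hnot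
    have hq'' : hW.fromSpec q ∈ X.basicOpen (φ g) := hq'
    rw [show φ g = f.appLE V0 W hWV g from rfl, Scheme.basicOpen_appLE] at hq''
    exact hq''.2
  · rw [Set.not_disjoint_iff] at hd
    obtain ⟨_, hgJ, g, hg, rfl⟩ := hd
    refine ⟨S.basicOpen g, S.basicOpen_le g, hg, fun x hx => ?_⟩
    by_contra hxO
    have hb : x ∈ X.basicOpen (φ g) := by
      rw [show φ g = f.appLE V0 W hWV g from rfl, Scheme.basicOpen_appLE]
      exact ⟨hx.1, hx.2⟩
    have hnot := (QCoh.mem_basicOpen_iff_notMem hW hx.1 (φ g)).1 hb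
    have hmem : hW.primeIdealOf ⟨x, hx.1⟩ ∈ (O'.carrierᶜ : Set (PrimeSpectrum Γ(X, W))) := by
      intro hh
      have hh' : hW.fromSpec (hW.primeIdealOf ⟨x, hx.1⟩) ∈ O := hh
      rw [hW.fromSpec_primeIdealOf] at hh'
      exact hxO hh'
    rw [hJ] at hmem
    exact hnot (hmem hgJ)

/-- The same for a quasi-compact open. -/
theorem exists_shrink {U : X.Opens} (hU : IsCompact (U : Set X)) {V0 : S.Opens} (hV0 : IsAffineOpen V0)
    (hs : s ∈ V0) (hUV : U ≤ f ⁻¹ᵁ V0) (O : X.Opens) (h : ∀ x ∈ U, f x ⤳ s → x ∈ O) :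
    ∃ V : S.Opens, V ≤ V0 ∧ IsAffineOpen V ∧ s ∈ V ∧ U ⊓ f ⁻¹ᵁ V ≤ O := by
  classical
  let ι := {W : X.Opens // IsAffineOpen W ∧ W ≤ U}
  have hcov : (U : Set X) ⊆ ⋃ i : ι, (i.1 : Set X) := fun x hx => by
    obtain ⟨_, ⟨W, hW, rfl⟩, hxW, hWU⟩ := X.isBasis_affineOpens.exists_subset_of_mem_open hx U.2
    exact Set.mem_iUnion.2 ⟨⟨W, hW, hWU⟩, hxW⟩
  obtain ⟨t, ht⟩ := hU.elim_finite_subcover _ (fun i : ι => i.1.2) hcov
  choose V hV hsV hVO using fun i : ι =>
    exists_shrink_affine f i.2.1 hV0 hs (i.2.2.trans hUV) O fun x hx => h x (i.2.2 hx)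
  have hsI : s ∈ V0 ⊓ t.inf V := ⟨hs, mem_inf t V fun i _ => hsV i⟩
  obtain ⟨_, ⟨V', hV', rfl⟩, hsV', hle⟩ :=
    S.isBasis_affineOpens.exists_subset_of_mem_open hsI (V0 ⊓ t.inf V).2
  refine ⟨V', fun x hx => (hle hx).1, hV', hsV', fun x hx => ?_⟩
  obtain ⟨i, hi, hxi⟩ := Set.mem_iUnion₂.1 (ht hx.1)
  exact hVO i ⟨hxi, Finset.inf_le (f := V) hi (hle hx.2).2⟩

/-- The open where two sections have equal germs. -/
def eqOpen {W W' : X.Opens} (a : Γ(F, W)) (b : Γ(F, W')) : X.Opens :=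
  ⟨{x | ∃ (hx : x ∈ W) (hx' : x ∈ W'), F.presheaf.germ W x hx a = F.presheaf.germ W' x hx' b}, by
    rw [isOpen_iff_forall_mem_open]
    rintro x ⟨hx, hx', e⟩
    obtain ⟨Z, hxZ, i, i', hZ⟩ := TopCat.Presheaf.germ_eq F.presheaf x hx hx' a b e
    refine ⟨Z, fun y hy => ⟨i.le hy, i'.le hy, ?_⟩, Z.2, hxZ⟩
    rw [← F.presheaf.germ_res_apply i y hy a, ← F.presheaf.germ_res_apply i' y hy b, hZ]⟩

/-- `O_{S,s} → O_{X,p}` for `p` above a generalization of `s`. -/
def phi {p : X} (h : f p ⤳ s) : S.presheaf.stalk s →+* X.presheaf.stalk p :=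
  (f.stalkMap p).hom.comp (S.presheaf.stalkSpecializes h).hom

/-- `(f_* F)_s → F_p` for `p` above a generalization of `s`. -/
def psi {p : X} (h : f p ⤳ s) :
    ((Scheme.Modules.pushforward f).obj F).presheaf.stalk s →+ F.presheaf.stalk p :=
  (((Scheme.Modules.pushforward f).obj F).presheaf.stalkSpecializes h ≫
    TopCat.Presheaf.stalkPushforward Ab.{u} f.base F.presheaf p).hom

theorem phi_germ {p : X} (h : f p ⤳ s) {V : S.Opens} (hs : s ∈ V) (r : Γ(S, V)) :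
    phi f h (S.presheaf.germ V s hs r) = X.presheaf.germ (f ⁻¹ᵁ V) p (h.mem_open V.2 hs) (f.app V r) := by
  show (f.stalkMap p).hom ((S.presheaf.stalkSpecializes h).hom (S.presheaf.germ V s hs r)) = _
  rw [TopCat.Presheaf.germ_stalkSpecializes_apply]
  exact Scheme.Hom.germ_stalkMap_apply f V p (h.mem_open V.2 hs) r

theorem psi_germ {p : X} (h : f p ⤳ s) {V : S.Opens} (hs : s ∈ V)
    (m : Γ((Scheme.Modules.pushforward f).obj F, V)) :
    psi f F h (((Scheme.Modules.pushforward f).obj F).presheaf.germ V s hs m) =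
      F.presheaf.germ (f ⁻¹ᵁ V) p (h.mem_open V.2 hs) (show Γ(F, f ⁻¹ᵁ V) from m) := by
  show (TopCat.Presheaf.stalkPushforward Ab.{u} f.base F.presheaf p).hom
    ((((Scheme.Modules.pushforward f).obj F).presheaf.stalkSpecializes h).hom
      (((Scheme.Modules.pushforward f).obj F).presheaf.germ V s hs m)) = _
  rw [TopCat.Presheaf.germ_stalkSpecializes_apply]
  exact ConcreteCategory.congr_hom
    (TopCat.Presheaf.stalkPushforward_germ Ab.{u} f.base F.presheaf V p (h.mem_open V.2 hs)) m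

theorem psi_smul {p : X} (h : f p ⤳ s) (a : S.presheaf.stalk s)
    (m : ((Scheme.Modules.pushforward f).obj F).presheaf.stalk s) :
    psi f F h (a • m) = phi f h a • psi f F h m := by
  obtain ⟨U, hxU, r, rfl⟩ := S.presheaf.exists_germ_eq a
  obtain ⟨V, hxV, t, rfl⟩ := TopCat.Presheaf.exists_germ_eq ((Scheme.Modules.pushforward f).obj F).presheaf m
  let W : S.Opens := U ⊓ V
  have hxW : s ∈ W := ⟨hxU, hxV⟩
  rw [← S.presheaf.germ_res_apply (homOfLE (inf_le_left : W ≤ U)) s hxW r,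
    ← ((Scheme.Modules.pushforward f).obj F).presheaf.germ_res_apply
      (homOfLE (inf_le_right : W ≤ V)) s hxW t]
  generalize S.presheaf.map (homOfLE (inf_le_left : W ≤ U)).op r = r'
  generalize ((Scheme.Modules.pushforward f).obj F).presheaf.map (homOfLE (inf_le_right : W ≤ V)).op t = t'
  rw [← QCoh.germ_smul' ((Scheme.Modules.pushforward f).obj F) hxW r' t', psi_germ, psi_germ, phi_germ]
  exact QCoh.germ_smul' F (h.mem_open W.2 hxW) (f.app W r') (show Γ(F, f ⁻¹ᵁ W) from t')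

variable [QuasiCompact f]

/-- The maps `psi` are jointly injective. -/
theorem eq_zero_of_psi (m : ((Scheme.Modules.pushforward f).obj F).presheaf.stalk s)
    (h : ∀ (p : X) (hp : f p ⤳ s), psi f F hp m = 0) : m = 0 := by
  obtain ⟨U, hxU, t, rfl⟩ := TopCat.Presheaf.exists_germ_eq ((Scheme.Modules.pushforward f).obj F).presheaf m
  obtain ⟨_, ⟨V, hV, rfl⟩, hsV, hle⟩ := S.isBasis_affineOpens.exists_subset_of_mem_open hxU U.2
  have hle' : V ≤ U := hle
  obtain ⟨t', ht'⟩ : ∃ t', t' = ((Scheme.Modules.pushforward f).obj F).presheaf.map (homOfLE hle').op t :=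
    ⟨_, rfl⟩
  have e0 : ((Scheme.Modules.pushforward f).obj F).presheaf.germ V s hsV t' =
      ((Scheme.Modules.pushforward f).obj F).presheaf.germ U s hxU t := by
    rw [ht']
    exact ((Scheme.Modules.pushforward f).obj F).presheaf.germ_res_apply (homOfLE hle') s hsV t
  rw [← e0] at h ⊢
  clear ht' e0
  obtain ⟨V1, hV1, -, hsV1, hsub⟩ := exists_shrink f (f.isCompact_preimage hV.isCompact) hV hsV le_rfl
    (eqOpen F (show Γ(F, f ⁻¹ᵁ V) from t') (0 : Γ(F, f ⁻¹ᵁ V))) fun x hx hxs => by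
      have e := h x hxs
      rw [psi_germ] at e
      refine ⟨hx, hx, ?_⟩
      exact e.trans (map_zero (F.presheaf.germ (f ⁻¹ᵁ V) x hx).hom).symm
  rw [← ((Scheme.Modules.pushforward f).obj F).presheaf.germ_res_apply (homOfLE hV1) s hsV1 t']
  suffices hz : F.presheaf.map (homOfLE (f.preimage_mono hV1)).op (show Γ(F, f ⁻¹ᵁ V) from t') = 0 by
    refine Eq.trans (congrArg (((Scheme.Modules.pushforward f).obj F).presheaf.germ V1 s hsV1) ?_) (map_zero _)
    exact hz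
  refine TopCat.Presheaf.section_ext ⟨F.presheaf, F.isSheaf⟩ _ _ _ fun x hx => ?_
  obtain ⟨_, _, e⟩ := hsub ⟨f.preimage_mono hV1 hx, hx⟩
  exact ((F.presheaf.germ_res_apply (homOfLE (f.preimage_mono hV1)) x hx _).trans e).trans
    ((map_zero _).trans (map_zero _).symm)

variable [QuasiSeparated f]

/-- A finite system of equations in `(f_* F)_s` with a unique solution at every point above a
generalization of `s` has a solution. -/
theorem exists_solution {ι : Type*} [Finite ι] (r : ι → S.presheaf.stalk s)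
    (m : ι → ((Scheme.Modules.pushforward f).obj F).presheaf.stalk s)
    (h : ∀ (p : X) (hp : f p ⤳ s), ∃! w : F.presheaf.stalk p, ∀ k, phi f hp (r k) • w = psi f F hp (m k)) :
    ∃ y : ((Scheme.Modules.pushforward f).obj F).presheaf.stalk s, ∀ k, r k • y = m k := by
  classical
  cases nonempty_fintype ι
  choose Ur hUr r₀ hr₀ using fun k => S.presheaf.exists_germ_eq (r k)
  choose Um hUm m₀ hm₀ using fun k =>
    TopCat.Presheaf.exists_germ_eq ((Scheme.Modules.pushforward f).obj F).presheaf (m k)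
  have hmemI : s ∈ Finset.univ.inf fun k => Ur k ⊓ Um k :=
    mem_inf _ _ fun i _ => ⟨hUr i, hUm i⟩
  obtain ⟨_, ⟨V, hV, rfl⟩, hsV, hVle⟩ := S.isBasis_affineOpens.exists_subset_of_mem_open hmemI
    (Finset.univ.inf fun k => Ur k ⊓ Um k).2
  have hle : ∀ k, V ≤ Ur k ⊓ Um k := fun k x hx =>
    Finset.inf_le (f := fun k => Ur k ⊓ Um k) (Finset.mem_univ k) (hVle hx)
  let r' : ∀ k, Γ(X, f ⁻¹ᵁ V) := fun k =>
    f.app V (S.presheaf.map (homOfLE ((hle k).trans inf_le_left)).op (r₀ k))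
  let m' : ∀ k, Γ(F, f ⁻¹ᵁ V) := fun k =>
    ((Scheme.Modules.pushforward f).obj F).presheaf.map (homOfLE ((hle k).trans inf_le_right)).op (m₀ k)
  have hphi : ∀ k (p : X) (hp : f p ⤳ s),
      phi f hp (r k) = X.presheaf.germ (f ⁻¹ᵁ V) p (hp.mem_open V.2 hsV) (r' k) := fun k p hp => by
    rw [← hr₀ k, ← S.presheaf.germ_res_apply (homOfLE ((hle k).trans inf_le_left)) s hsV (r₀ k), phi_germ]
  have hpsi : ∀ k (p : X) (hp : f p ⤳ s),
      psi f F hp (m k) = F.presheaf.germ (f ⁻¹ᵁ V) p (hp.mem_open V.2 hsV) (m' k) := fun k p hp => by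
    rw [← hm₀ k, ← ((Scheme.Modules.pushforward f).obj F).presheaf.germ_res_apply
      (homOfLE ((hle k).trans inf_le_right)) s hsV (m₀ k), psi_germ]
  -- local solutions
  let P := {p : X // f p ⤳ s}
  have hloc : ∀ p : P, ∃ (W : X.Opens) (w : Γ(F, W)), IsAffineOpen W ∧ p.1 ∈ W ∧ W ≤ f ⁻¹ᵁ V ∧
      ∀ k, ∀ x (hx : x ∈ W) (hxV : x ∈ f ⁻¹ᵁ V),
        X.presheaf.germ (f ⁻¹ᵁ V) x hxV (r' k) • F.presheaf.germ W x hx w =
          F.presheaf.germ (f ⁻¹ᵁ V) x hxV (m' k) := by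
    intro p
    obtain ⟨w, hw, -⟩ := h p.1 p.2
    obtain ⟨W₀, hpW₀, w₀, rfl⟩ := TopCat.Presheaf.exists_germ_eq F.presheaf w
    let W₁ : X.Opens := W₀ ⊓ f ⁻¹ᵁ V
    have hpW₁ : p.1 ∈ W₁ := ⟨hpW₀, p.2.mem_open V.2 hsV⟩
    let E : ι → X.Opens := fun k => eqOpen F
      (X.presheaf.map (homOfLE (inf_le_right : W₁ ≤ f ⁻¹ᵁ V)).op (r' k) •
        F.presheaf.map (homOfLE (inf_le_left : W₁ ≤ W₀)).op w₀ : Γ(F, W₁)) (m' k)
    have hpE : ∀ k, p.1 ∈ E k := fun k => by
      refine ⟨hpW₁, hpW₁.2, ?_⟩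
      rw [QCoh.germ_smul' F hpW₁, X.presheaf.germ_res_apply, F.presheaf.germ_res_apply, ← hphi k p.1 p.2,
        ← hpsi k p.1 p.2]
      exact hw k
    have hpI : p.1 ∈ W₁ ⊓ Finset.univ.inf E :=
      ⟨hpW₁, mem_inf _ _ fun i _ => hpE i⟩
    obtain ⟨_, ⟨W, hW, rfl⟩, hpW, hWle⟩ := X.isBasis_affineOpens.exists_subset_of_mem_open hpI
      (W₁ ⊓ Finset.univ.inf E).2
    refine ⟨W, F.presheaf.map (homOfLE (fun x hx => (hWle hx).1.1 : W ≤ W₀)).op w₀, hW, hpW,
      fun x hx => (hWle hx).1.2, fun k x hx hxV => ?_⟩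
    obtain ⟨hx₁, hx₂, e⟩ := Finset.inf_le (f := E) (Finset.mem_univ k) (hWle hx).2
    rw [QCoh.germ_smul' F hx₁, X.presheaf.germ_res_apply, F.presheaf.germ_res_apply] at e
    rw [F.presheaf.germ_res_apply]
    exact e
  choose W w hW hpW hWV hw using hloc
  obtain ⟨V₁, hV₁, hV₁a, hsV₁, hcov₁⟩ := exists_shrink f (f.isCompact_preimage hV.isCompact) hV hsV le_rfl
    (⨆ p : P, W p) fun x _ hx => TopologicalSpace.Opens.mem_iSup.2 ⟨⟨x, hx⟩, hpW _⟩
  have hcov₁' : ((f ⁻¹ᵁ V₁ : X.Opens) : Set X) ⊆ ⋃ p : P, (W p : Set X) := fun x hx => by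
    obtain ⟨p, hp⟩ := TopologicalSpace.Opens.mem_iSup.1 (hcov₁ ⟨f.preimage_mono hV₁ hx, hx⟩)
    exact Set.mem_iUnion.2 ⟨p, hp⟩
  obtain ⟨t, ht⟩ := (f.isCompact_preimage hV₁a.isCompact).elim_finite_subcover _ (fun p : P => (W p).2) hcov₁'
  -- compatibility near `s`
  have hqs := f.isQuasiSeparated_preimage hV.isQuasiSeparated
  have hpair : ∀ pq : P × P, ∃ V' : S.Opens, s ∈ V' ∧
      W pq.1 ⊓ W pq.2 ⊓ f ⁻¹ᵁ V' ≤ eqOpen F (w pq.1) (w pq.2) := by
    intro pq
    have hc : IsCompact ((W pq.1 ⊓ W pq.2 : X.Opens) : Set X) :=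
      hqs _ _ (hWV pq.1) (W pq.1).2 (hW pq.1).isCompact (hWV pq.2) (W pq.2).2 (hW pq.2).isCompact
    obtain ⟨V', -, -, hsV', hsub⟩ := exists_shrink f hc hV hsV (inf_le_left.trans (hWV pq.1))
      (eqOpen F (w pq.1) (w pq.2))
      fun x hx hxs => by
        refine ⟨hx.1, hx.2, (h x hxs).unique (fun k => ?_) (fun k => ?_)⟩
        · rw [hphi k x hxs, hpsi k x hxs]
          exact hw pq.1 k x hx.1 _
        · rw [hphi k x hxs, hpsi k x hxs]
          exact hw pq.2 k x hx.2 _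
    exact ⟨V', hsV', hsub⟩
  choose V' hsV' hV' using hpair
  have hmem₂ : s ∈ V₁ ⊓ (t ×ˢ t).inf V' := ⟨hsV₁, mem_inf _ _ fun i _ => hsV' i⟩
  let V₂ : S.Opens := V₁ ⊓ (t ×ˢ t).inf V'
  -- glue
  let U : ↥t → X.Opens := fun p => W p.1 ⊓ f ⁻¹ᵁ V₂
  obtain ⟨y, hy, -⟩ := TopCat.Sheaf.existsUnique_gluing' ⟨F.presheaf, F.isSheaf⟩ U (f ⁻¹ᵁ V₂)
    (fun p => homOfLE inf_le_right)
    (fun x hx => by
      obtain ⟨p, hp, hxp⟩ := Set.mem_iUnion₂.1 (ht (f.preimage_mono (inf_le_left : V₂ ≤ V₁) hx))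
      refine TopologicalSpace.Opens.mem_iSup.2 ⟨⟨p, hp⟩, ?_⟩
      exact (show x ∈ W p ⊓ f ⁻¹ᵁ V₂ from ⟨hxp, hx⟩))
    (fun p => F.presheaf.map (homOfLE (inf_le_left : U p ≤ W p.1)).op (w p.1))
    (fun p q => TopCat.Presheaf.section_ext ⟨F.presheaf, F.isSheaf⟩ _ _ _ fun x hx => by
      have hq : (p.1, q.1) ∈ t ×ˢ t := Finset.mem_product.2 ⟨p.2, q.2⟩
      obtain ⟨_, _, e⟩ := hV' (p.1, q.1)
        ⟨⟨hx.1.1, hx.2.1⟩, Finset.inf_le (f := V') hq (show f x ∈ V₂ from hx.1.2).2⟩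
      refine ((F.presheaf.germ_res_apply _ x hx _).trans ?_).trans (F.presheaf.germ_res_apply _ x hx _).symm
      exact ((F.presheaf.germ_res_apply _ x hx.1 _).trans e).trans (F.presheaf.germ_res_apply _ x hx.2 _).symm)
  have hsV₂ : s ∈ V₂ := hmem₂
  have hV₂ : V₂ ≤ V := inf_le_left.trans hV₁
  refine ⟨((Scheme.Modules.pushforward f).obj F).presheaf.germ V₂ s hsV₂ y, fun k => ?_⟩
  rw [← hr₀ k, ← hm₀ k,
    ← S.presheaf.germ_res_apply (homOfLE (hV₂.trans ((hle k).trans inf_le_left))) s hsV₂ (r₀ k),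
    ← ((Scheme.Modules.pushforward f).obj F).presheaf.germ_res_apply
      (homOfLE (hV₂.trans ((hle k).trans inf_le_right))) s hsV₂ (m₀ k),
    ← QCoh.germ_smul' ((Scheme.Modules.pushforward f).obj F) hsV₂]
  refine congrArg (((Scheme.Modules.pushforward f).obj F).presheaf.germ V₂ s hsV₂) ?_
  refine TopCat.Presheaf.section_ext ⟨F.presheaf, F.isSheaf⟩ (f ⁻¹ᵁ V₂) _ _ fun x hx => ?_
  obtain ⟨p, hp, hxp⟩ := Set.mem_iUnion₂.1 (ht (f.preimage_mono (inf_le_left : V₂ ≤ V₁) hx))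
  have hyx : F.presheaf.germ (f ⁻¹ᵁ V₂) x hx y = F.presheaf.germ (W p) x hxp (w p) := by
    have hxU : x ∈ U ⟨p, hp⟩ := ⟨hxp, hx⟩
    have := congrArg (F.presheaf.germ (U ⟨p, hp⟩) x hxU) (hy ⟨p, hp⟩)
    exact ((F.presheaf.germ_res_apply _ x hxU _).symm.trans this).trans (F.presheaf.germ_res_apply _ x hxU _)
  have hxV : x ∈ f ⁻¹ᵁ V := f.preimage_mono hV₂ hx
  refine (QCoh.germ_smul' F (show x ∈ f ⁻¹ᵁ V₂ from hx) _ _).trans ?_
  rw [hyx]
  refine Eq.trans (congrArg (· • F.presheaf.germ (W p) x hxp (w p)) ?_)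
    ((hw p k x hxp hxV).trans ?_)
  · refine (Scheme.Hom.germ_stalkMap_apply f V₂ x hx _).symm.trans ?_
    refine Eq.trans ?_ (Scheme.Hom.germ_stalkMap_apply f V x hxV _)
    rw [S.presheaf.germ_res_apply, S.presheaf.germ_res_apply]
  · exact (F.presheaf.germ_res_apply (homOfLE (f.preimage_mono ((hle k).trans inf_le_right))) x hxV _).trans
      (F.presheaf.germ_res_apply (homOfLE (f.preimage_mono (hV₂.trans ((hle k).trans inf_le_right)))) x hx _).symm

end Groth.Agent.PushDepth
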